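import Groth.Agent.Lib.CurveR1_10.Basic

/-!
# Openness of the locus where the functions on the fibre are the residue field
-/

set_option autoImplicit false
set_option linter.style.haveILetI false
set_option maxHeartbeats 1000000
set_option backward.isDefEq.respectTransparency false
set_option backward.isDefEq.respectTransparency.types false

universe u

open CategoryTheory CategoryTheory.Limits AlgebraicGeometry TopologicalSpace Opposite Groth.Agent.ModLimH13

noncomputable section

namespace Groth.Agent.OpenH0Fib12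

open Groth.Agent.M1 Groth.Agent.P1Split Groth.Agent.CBC10 Groth.Agent.CurveR1_10

theorem hRank_eq_one_of_bijective {k : Type u} [Field k] {Z : Scheme.{u}} (q : Z ⟶ Spec (CommRingCat.of k))
    (h : Function.Bijective q.appTop) : Models.hRank k Z q (Coh.structureModule Z) 0 = 1 := by
  letI : Z.Over (Spec (CommRingCat.of k)) := ⟨q⟩
  let O := Coh.structureModule Z
  let H := CurveCoh17.hh0 O
  show Module.finrank k (Coh.HH Z O 0) = 1
  let z := H.symm (one ⊤)
  have key : ∀ c : k, H (c • z) = (q.appTop ((Scheme.ΓSpecIso (CommRingCat.of k)).inv c) : Γ(Z, ⊤)) := fun c => by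
    refine (CurveCoh17.hh0_smul _ _).trans ?_
    rw [AddEquiv.apply_symm_apply]
    exact mul_one (M := Γ(Z, ⊤)) _
  have hb : Function.Bijective fun c : k => c • z := by
    have h1 : Function.Bijective fun c : k => H (c • z) := by
      simp only [key]
      exact h.comp (ConcreteCategory.bijective_of_isIso (Scheme.ΓSpecIso (CommRingCat.of k)).inv)
    exact (Function.Bijective.of_comp_iff' H.bijective _).1 h1
  have hz : z ≠ 0 := fun hz => one_ne_zero (hb.1 (show (1 : k) • z = (0 : k) • z by rw [hz, smul_zero, smul_zero]))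
  exact (finrank_eq_one_iff_of_nonzero' z hz).2 hb.2

theorem exists_nhd_bijective_fibre {X S : Scheme.{u}} (f : X ⟶ S) [IsProper f] [Flat f] [LocallyOfFinitePresentation f]
    (s : S) (hdim : topologicalKrullDim ↥(f.fiber s) ≤ 1)
    (hsec : Function.Bijective (f.fiberToSpecResidueField s).appTop) :
    ∃ W : S.Opens, s ∈ W ∧ ∀ t ∈ W, Function.Bijective (f.fiberToSpecResidueField t).appTop := by
  haveI : HasInjectiveResolutions X.Modules := CohFound.hasInjectiveResolutions_modules X
  let O := Coh.structureModule X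
  haveI hOq : Coh.IsQCoh O := M1.isQCoh_structureModule X
  obtain ⟨U, hsU, hU⟩ := exists_nhd_bijective_app f s hsec
  obtain ⟨V', M', hsV', h1, -⟩ := exists_model_flat f s hdim hsec.2
  refine ⟨U ⊓ V', ⟨hsU, hsV'⟩, fun t ht => ?_⟩
  let pF := (Scheme.Modules.pushforward f).obj O
  have hgen : Twist.IsGen pF U (show Γ(pF, U) from one (f ⁻¹ᵁ U)) := fun V hV => by
    have : (fun a : Γ(S, V) => a • M1.mres pF hV (show Γ(pF, U) from one (f ⁻¹ᵁ U))) =
        fun a => (f.app V a : Γ(X, f ⁻¹ᵁ V)) := by
      funext a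
      rw [show M1.mres pF hV (show Γ(pF, U) from one (f ⁻¹ᵁ U)) = (show Γ(pF, V) from one (f ⁻¹ᵁ V)) from
        mres_one (X := X) (f.preimage_mono hV)]
      exact mul_one (f.app V a)
    rw [this]
    exact hU V hV
  let g := S.fromSpecResidueField t
  let f' := f.fiberToSpecResidueField t
  let ι := f.fiberι t
  have h : IsPullback ι f' f g := IsPullback.of_hasPullback _ _
  haveI : Subsingleton (Spec (S.residueField t)) := inferInstanceAs (Subsingleton (PrimeSpectrum (S.residueField t)))
  have eTop : ∀ {V : S.Opens}, t ∈ V → (⊤ : (Spec (S.residueField t)).Opens) ≤ g ⁻¹ᵁ V := fun {V} hV z _ => by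
    show g z ∈ V
    rw [S.fromSpecResidueField_apply]
    exact hV
  let β := CohBC.bc0 f g f' ι h.w O
  haveI : IsIso β := CBC10.isIso_bc0 h O fun z => ⟨V', M', eTop ht.2 (Opens.mem_top z), h1⟩
  have hW : (⊤ : (Spec (S.residueField t)).Opens) ≤ g ⁻¹ᵁ U := eTop ht.1
  let T := (Scheme.Modules.pushforward f').obj ((Scheme.Modules.pullback ι).obj O)
  have hle : f' ⁻¹ᵁ (⊤ : (Spec (S.residueField t)).Opens) ≤ ι ⁻¹ᵁ (f ⁻¹ᵁ U) := fun x hx => by
    show f (ι x) ∈ U
    rw [← Scheme.Hom.comp_apply, h.w, Scheme.Hom.comp_apply]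
    exact hW (Opens.mem_top _)
  let u : Γ(T, ⊤) := res' ι O hle (one (f ⁻¹ᵁ U))
  have hβ : β.app ⊤ (res' g pF hW (show Γ(pF, U) from one (f ⁻¹ᵁ U))) = u := CBC10.bc0_res' h.w O hW _
  have hu : Function.Bijective fun c : Γ(Spec (S.residueField t), ⊤) => c • u := by
    have heq : (fun c : Γ(Spec (S.residueField t), ⊤) => c • u) =
        β.app ⊤ ∘ fun c : Γ(Spec (S.residueField t), ⊤) =>
          c • M1.mres _ hW (M2.pullSec g pF (show Γ(pF, U) from one (f ⁻¹ᵁ U))) := by
      funext c
      exact (congrArg (c • ·) hβ.symm).trans (Scheme.Modules.Hom.app_smul β _ _).symm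
    rw [heq]
    exact (ConcreteCategory.bijective_of_isIso (β.app ⊤)).comp (hgen.pullback g ⊤ hW)
  have hu' := (isGen_one (f ⁻¹ᵁ U)).pullback ι (f' ⁻¹ᵁ ⊤) hle
  exact (Function.Bijective.of_comp_iff' hu' (f'.app ⊤)).1 hu

end Groth.Agent.OpenH0Fib12
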